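import Cfsg.Prelude.Def_PLocal
import Cfsg.Agent.PGroup.Frattini
import Mathlib.GroupTheory.PGroup
import Mathlib.GroupTheory.Frattini

/-!
# Powers in regular p-groups
-/

namespace Cfsg.Agent.Regular

open scoped commutatorElement

variable {G : Type*} [Group G]

theorem powerClosure_mono {p n : ℕ} {H K : Subgroup G} (h : H ≤ K) :
    Cfsg.powerClosure p n H ≤ Cfsg.powerClosure p n K :=
  Subgroup.closure_mono fun _ ⟨x, hx, he⟩ => ⟨x, h hx, he⟩

theorem pow_mem_powerClosure {p n : ℕ} {H : Subgroup G} {x : G} (hx : x ∈ H) :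
    x ^ p ^ n ∈ Cfsg.powerClosure p n H :=
  Subgroup.subset_closure ⟨x, hx, rfl⟩

variable [Finite G] {p : ℕ} [Fact p.Prime]

/-- In a p-subgroup `K`, if an element and the derived subgroup generate `K`, then `K` is cyclic. -/
theorem commutator_eq_bot_of_generated {K : Subgroup G} (hK : IsPGroup p K) {u : G} (hu : u ∈ K)
    (h : K ≤ Subgroup.zpowers u ⊔ ⁅K, K⁆) : ⁅K, K⁆ = ⊥ := by
  have htop : Subgroup.zpowers (⟨u, hu⟩ : K) ⊔ commutator K = ⊤ := by
    apply Subgroup.map_injective K.subtype_injective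
    rw [Subgroup.map_sup, MonoidHom.map_zpowers, Subgroup.map_subtype_commutator,
      ← MonoidHom.range_eq_map, Subgroup.range_subtype]
    exact le_antisymm (sup_le (Subgroup.zpowers_le.mpr hu) (Subgroup.commutator_le_self K)) h
  have h2 : Subgroup.zpowers (⟨u, hu⟩ : K) = ⊤ :=
    frattini_nongenerating (eq_top_iff.mpr (htop.ge.trans
      (sup_le_sup_left (PGroup.commutator_le_frattini hK) _)))
  rw [Subgroup.commutator_eq_bot_iff_le_centralizer]
  intro a ha
  refine Subgroup.mem_centralizer_iff.mpr fun b hb => ?_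
  obtain ⟨i, hi⟩ := Subgroup.mem_zpowers_iff.mp (h2 ▸ Subgroup.mem_top (⟨a, ha⟩ : K) :
    (⟨a, ha⟩ : K) ∈ Subgroup.zpowers (⟨u, hu⟩ : K))
  obtain ⟨j, hj⟩ := Subgroup.mem_zpowers_iff.mp (h2 ▸ Subgroup.mem_top (⟨b, hb⟩ : K) :
    (⟨b, hb⟩ : K) ∈ Subgroup.zpowers (⟨u, hu⟩ : K))
  exact congrArg Subtype.val (show (⟨b, hb⟩ : K) * ⟨a, ha⟩ = ⟨a, ha⟩ * ⟨b, hb⟩ by
    rw [← hi, ← hj]; exact (Commute.zpow_zpow_self _ j i).eq)

/-- In a regular p-group products of `p^n`-th powers are `p^n`-th powers. -/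
theorem exists_pow_of_mem_powerClosure (hG : Cfsg.IsRegularPGroup p G) (n : ℕ) (K : Subgroup G) :
    ∀ y ∈ Cfsg.powerClosure p n K, ∃ x ∈ K, y = x ^ p ^ n := by
  obtain ⟨hp, hreg⟩ := hG
  induction hc : Nat.card K using Nat.strong_induction_on generalizing K with
  | _ m ih =>
  subst hc
  have mulcl : ∀ x ∈ K, ∀ y ∈ K, ∃ z ∈ K, x ^ p ^ n * y ^ p ^ n = z ^ p ^ n := by
    intro x hx y hy
    set J := Subgroup.closure ({x, y} : Set G) with hJ
    have hJK : J ≤ K := (Subgroup.closure_le K).mpr fun w hw => by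
      rcases hw with rfl | rfl <;> assumption
    have hxJ : x ∈ J := Subgroup.subset_closure (Set.mem_insert _ _)
    have hyJ : y ∈ J := Subgroup.subset_closure (Set.mem_insert_of_mem _ rfl)
    rcases hJK.eq_or_lt with hJeq | hlt
    swap
    · have hcard : Nat.card J < Nat.card K := Nat.lt_of_le_of_ne (Subgroup.card_le_of_le hJK)
        fun e => hlt.ne (Subgroup.eq_of_le_of_card_ge hJK e.ge)
      obtain ⟨z, hz, he⟩ := ih _ hcard J rfl _ (mul_mem (pow_mem_powerClosure hxJ) (pow_mem_powerClosure hyJ))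
      exact ⟨z, hJK hz, he⟩
    obtain ⟨c, hc, hxy⟩ := hreg x y n
    rw [← hJ, hJeq] at hc
    set D := ⁅K, K⁆ with hD
    have hDK : D ≤ K := Subgroup.commutator_le_self K
    have he : x ^ p ^ n * y ^ p ^ n = (x * y) ^ p ^ n * c⁻¹ := by rw [hxy, mul_inv_cancel_right]
    by_cases hDb : D = ⊥
    · have hc1 : c = 1 := by
        have : Cfsg.powerClosure p n D ≤ ⊥ := by
          rw [hDb, Cfsg.powerClosure, Subgroup.closure_le]
          rintro _ ⟨w, hw, rfl⟩
          rw [Subgroup.mem_bot] at hw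
          simp [hw]
        exact Subgroup.mem_bot.mp (this hc)
      exact ⟨x * y, mul_mem hx hy, by rw [he, hc1, inv_one, mul_one]⟩
    have hDlt : D < K := by
      refine hDK.lt_of_ne fun e => hDb (commutator_eq_bot_of_generated (hp.to_subgroup K) hx ?_)
      rw [← hD, e]; exact le_sup_right
    have hcard : Nat.card D < Nat.card K := Nat.lt_of_le_of_ne (Subgroup.card_le_of_le hDK)
      fun e => hDlt.ne (Subgroup.eq_of_le_of_card_ge hDK e.ge)
    obtain ⟨d, hd, hdc⟩ := ih _ hcard D rfl _ (inv_mem hc)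
    -- a smaller two-generated subgroup
    set J' := Subgroup.closure ({x * y, d} : Set G) with hJ'
    have hJ'K : J' ≤ K := (Subgroup.closure_le K).mpr fun w hw => by
      rcases hw with rfl | rfl
      · exact mul_mem hx hy
      · exact hDK hd
    have hlt' : J' < K := by
      refine hJ'K.lt_of_ne fun e => hDb (commutator_eq_bot_of_generated (hp.to_subgroup K) (mul_mem hx hy) ?_)
      conv_lhs => rw [← e]
      rw [hJ', Subgroup.closure_le]
      rintro w (rfl | rfl)
      · exact Subgroup.mem_sup_left (Subgroup.mem_zpowers _)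
      · exact Subgroup.mem_sup_right hd
    have hcard' : Nat.card J' < Nat.card K := Nat.lt_of_le_of_ne (Subgroup.card_le_of_le hJ'K)
      fun e => hlt'.ne (Subgroup.eq_of_le_of_card_ge hJ'K e.ge)
    obtain ⟨z, hz, hz'⟩ := ih _ hcard' J' rfl _ (mul_mem
      (pow_mem_powerClosure (Subgroup.subset_closure (Set.mem_insert (x * y) {d})))
      (pow_mem_powerClosure (Subgroup.subset_closure (Set.mem_insert_of_mem (x * y) (Set.mem_singleton d)))))
    exact ⟨z, hJ'K hz, by rw [he, hdc, hz']⟩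
  intro w hw
  induction hw using Subgroup.closure_induction with
  | mem w hw => exact hw
  | one => exact ⟨1, one_mem _, (one_pow _).symm⟩
  | mul a b _ _ ha hb =>
    obtain ⟨u, hu, rfl⟩ := ha
    obtain ⟨v, hv, rfl⟩ := hb
    exact mulcl u hu v hv
  | inv a _ ha =>
    obtain ⟨u, hu, rfl⟩ := ha
    exact ⟨u⁻¹, inv_mem hu, (inv_pow _ _).symm⟩

theorem powerClosure_commutator_le (hG : Cfsg.IsRegularPGroup p G) (n : ℕ) (H : Subgroup G) :
    ⁅Cfsg.powerClosure p n H, Cfsg.powerClosure p n H⁆ ≤ Cfsg.powerClosure p n ⁅H, H⁆ := by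
  rw [Subgroup.commutator_le]
  intro u hu v hv
  obtain ⟨a, ha, rfl⟩ := exists_pow_of_mem_powerClosure hG n H u hu
  obtain ⟨b', hb', rfl⟩ := exists_pow_of_mem_powerClosure hG n H v hv
  set b := b' ^ p ^ n with hb_def
  have hb : b ∈ H := pow_mem hb' _
  set w := (b * a * b⁻¹)⁻¹ with hw
  have hwH : w ∈ H := inv_mem (mul_mem (mul_mem hb ha) (inv_mem hb))
  have he : ⁅a ^ p ^ n, b⁆ = a ^ p ^ n * w ^ p ^ n := by
    rw [hw, inv_pow, conj_pow, commutatorElement_def]; group
  obtain ⟨c, hc, hac⟩ := hG.2 a w n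
  rw [he, ← mul_inv_cancel_right (a ^ p ^ n * w ^ p ^ n) c, ← hac]
  refine mul_mem (pow_mem_powerClosure ?_) (inv_mem (powerClosure_mono ?_ hc))
  · have : a * w = ⁅a, b⁆ := by rw [hw, commutatorElement_def]; group
    rw [this]; exact Subgroup.commutator_mem_commutator ha hb
  · have hle : Subgroup.closure ({a, w} : Set G) ≤ H := (Subgroup.closure_le H).mpr fun v hv => by
      rcases hv with rfl | rfl <;> assumption
    exact Subgroup.commutator_mono hle hle

end Cfsg.Agent.Regular
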